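import Cfsg.Agent.VAN.Iface
import Cfsg.Agent.SporRec.TwoSp6.Sp
import Cfsg.Agent.LieClassical.SympCenter
import Cfsg.Agent.LieClassical.FieldTransfer
import Cfsg.Agent.S0270
import Cfsg.Agent.H732.VZ.Exc
import Cfsg.Agent.H332.TC.GP
import Cfsg.Agent.H293.Conj.CC
import Cfsg.Agent.H224.OZ.Base
import Cfsg.Agent.H716.VzOut

/-!
# S4942: the group `Sp₆(2)` (helper83)

The triple is an element of order `7`, an element of order `9` and a transvection `t`.  A character which does not vanish
at the first two has degree prime to `63`, the size of the class of `t`; by Burnside's theorem it vanishes at `t`.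
-/

set_option autoImplicit false

namespace Cfsg.Agent.VAN.Sm

open Cfsg Subgroup Cfsg.Agent.Characters
open Cfsg.Agent.SporRec.TwoSp6.Sp Cfsg.Agent.SporRec.TwoSp6.Cox

universe u

section abs

variable {G : Type u} [Group G] [Finite G]

/-- a rational `p`-element with small centralizer is a zero of the non-trivial characters of degree divisible by `p` -/
theorem zero_of_small {p n : ℕ} (hp : p.Prime) {y : G} (hy : y ^ p ^ n = 1) (hr : ∀ k, ¬ p ∣ k → IsConj y (y ^ k))
    (hc : Nat.card (centralizer ({y} : Set G)) ≤ p ^ 2) {χ : G → ℂ} (hχ : IsIrrCharacter G χ) (h1 : χ ≠ 1)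
    (hd : p ∣ charDegree χ) : χ y = 0 := by
  obtain ⟨w, hw, h2⟩ := H332.TC.GP.exists_int hp (Core.isIrr_isCharacter hχ)
    (H686.CharKit.charDegree_irr ⟨χ, hχ⟩).symm n y hy hr
  have h3 := H293.Conj.normSq_le_sub_one hχ h1 y
  have h4 : (p : ℤ) ∣ w := by
    have h5 : (p : ℤ) ∣ (charDegree χ : ℤ) := Int.natCast_dvd_natCast.2 hd
    simpa using dvd_add h2 h5
  obtain ⟨c, rfl⟩ := h4
  rw [hw, Complex.normSq_intCast] at h3
  have h5 : ((p : ℤ) * c) * (p * c) + 1 ≤ (p : ℤ) ^ 2 := by
    have h6 : (Nat.card (centralizer ({y} : Set G)) : ℝ) ≤ (p : ℝ) ^ 2 := by exact_mod_cast hc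
    exact_mod_cast h3.trans h6
  have h6 : c = 0 := by
    by_contra h7
    have h8 : 1 ≤ c * c := by nlinarith [Int.one_le_abs h7, abs_mul_abs_self c, abs_nonneg c]
    nlinarith [sq_nonneg (p : ℤ)]
  rw [hw, h6, mul_zero, Int.cast_zero]

/-- a non-trivial character of degree prime to the class size of `t ≠ 1` vanishes at `t` -/
theorem zero_of_coprime [IsSimpleGroup G] (hna : ¬ IsMulCommutative G) {χ : G → ℂ} (hχ : IsIrrCharacter G χ) (h1 : χ ≠ 1)
    {t : G} (ht : t ≠ 1) (hc : Nat.Coprime (centralizer ({t} : Set G)).index (charDegree χ)) : χ t = 0 := by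
  have h2 : χ 1 ≠ 1 := by
    intro h2
    obtain ⟨f, rfl⟩ := Linear.exists_hom_of_isIrrCharacter hχ h2
    apply h1
    rcases IsSimpleGroup.eq_bot_or_eq_top_of_normal f.ker inferInstance with h3 | h3
    · refine absurd ⟨⟨fun a b => (MonoidHom.ker_eq_bot_iff f).1 h3 ?_⟩⟩ hna
      rw [map_mul, map_mul, mul_comm]
    · funext g
      have h4 : g ∈ f.ker := by rw [h3]; exact mem_top g
      rw [MonoidHom.mem_ker] at h4
      simp [h4]
  obtain ⟨x, hx⟩ := H716.VzOut.exists_zero hχ h2
  exact H732.VZ.eq_zero_of_coprime hna ⟨χ, hχ⟩ hx ht hc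

end abs

/-! ### the transvection -/

theorem act_zero (g : S) : act g 0 = 0 := Matrix.mulVec_zero _

theorem index_tr {u : V} (hu : u ≠ 0) : (centralizer ({tr u} : Set S)).index ∣ 63 := by
  let _ : MulAction S V := { smul := act, one_smul := act_one, mul_smul := act_mul }
  have h1 : MulAction.stabilizer S u ≤ centralizer ({tr u} : Set S) := by
    intro g hg
    have h2 : act g u = u := hg
    have h3 := conj_tr g u
    rw [h2] at h3
    rw [mem_centralizer_singleton_iff]
    exact mul_inv_eq_iff_eq_mul.1 h3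
  have h2 : MulAction.orbit S u = {0}ᶜ := by
    ext w
    constructor
    · rintro ⟨g, rfl⟩ h
      apply hu
      have h3 : act g u = 0 := h
      rw [← act_one u, ← inv_mul_cancel g, act_mul, h3, act_zero]
    · exact fun h => exists_act hu h
  have h3 : (MulAction.stabilizer S u).index = 63 := by
    refine (MulAction.index_stabilizer S u).trans ((congrArg Set.ncard h2).trans ?_)
    rw [Set.ncard_compl, Set.ncard_singleton, Nat.card_eq_fintype_card]
    rfl
  exact h3 ▸ index_dvd_of_le h1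

theorem tr_ne : tr (enc 1) ≠ 1 := by
  intro h
  have h1 := act_tr (enc 1) (enc 8)
  rw [h, act_one] at h1
  revert h1
  rw [om_enc]
  decide +kernel

/-! ### the element of order nine -/

/-- the Coxeter element -/
def y9 : S := prod7 fun i => tr (v i)

theorem act_y (c : ℕ) : act y9 (enc c) = enc (cox c) := act_prod7 c

theorem act_pow (i c : ℕ) : act (y9 ^ i) (enc c) = enc (cox^[i] c) := by
  induction i generalizing c with
  | zero => exact act_one _
  | succ i ih => rw [pow_succ, act_mul, act_y, ih, Function.iterate_succ_apply]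

/-- combinations of the images of a vector -/
def comb : ℕ → ℕ → ℕ → ℕ
  | 0, _, _ => 0
  | n + 1, b, c => (if b % 2 = 1 then c else 0) ^^^ comb n (b / 2) (cox c)

theorem comb_all : ∀ c < 64, ∃ b < 64, comb 6 b 1 = c := by decide +kernel

theorem enc_zero : enc 0 = 0 := by decide +kernel

theorem eq_of_comm {g h : S} (hg : g * y9 = y9 * g) (hh : h * y9 = y9 * h) (e : act g (enc 1) = act h (enc 1)) : g = h := by
  have key : ∀ n b c, act g (enc c) = act h (enc c) → act g (enc (comb n b c)) = act h (enc (comb n b c)) := by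
    intro n
    induction n with
    | zero =>
      intro b c _
      rw [comb, enc_zero, act_zero, act_zero]
    | succ n ih =>
      intro b c hc
      rw [comb, enc_xor, act_add, act_add, ih (b / 2) (cox c)]
      · congr 1
        split_ifs
        · exact hc
        · rw [enc_zero, act_zero, act_zero]
      · rw [← act_y, ← act_mul, ← act_mul, hg, hh, act_mul, act_mul, hc]
  apply act_ext
  intro x
  obtain ⟨c, hc, rfl⟩ := exists_enc x
  obtain ⟨b, -, rfl⟩ := comb_all c hc
  exact key 6 b 1 e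

theorem nine : ∀ c < 64, (∀ i < 4, fN c (cox^[i] c) = fN 1 (cox^[i] 1)) → ∃ i < 9, c = cox^[i] 1 := by decide +kernel

theorem cent_le : centralizer ({y9} : Set S) ≤ zpowers y9 := by
  intro g hg
  rw [mem_centralizer_singleton_iff] at hg
  obtain ⟨c, hc, h1⟩ := exists_enc (act g (enc 1))
  obtain ⟨i, -, rfl⟩ := nine c hc fun i _ => by
    have h2 := act_om g (enc 1) (act (y9 ^ i) (enc 1))
    have h3 : g * y9 ^ i = y9 ^ i * g := (Commute.pow_right hg i).eq
    rw [← act_mul, h3, act_mul, h1, act_pow, act_pow, om_enc, om_enc] at h2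
    revert h2
    cases fN c (cox^[i] c) <;> cases fN 1 (cox^[i] 1) <;> decide
  rw [eq_of_comm hg (Commute.self_pow y9 i).symm.eq (h1.trans (act_pow i 1).symm)]
  exact npow_mem_zpowers y9 i

theorem y9_pow : y9 ^ 9 = 1 := prod7_pow

theorem card_cent : Nat.card (centralizer ({y9} : Set S)) ≤ 3 ^ 2 := by
  refine (card_le_of_le cent_le).trans ?_
  rw [Nat.card_zpowers]
  exact orderOf_le_of_pow_eq_one (by norm_num) y9_pow

/-- a transvection on codes -/
def stc (a c : ℕ) : ℕ := if fN c a then c ^^^ a else c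

theorem act_trc (a c : ℕ) : act (tr (enc a)) (enc c) = enc (stc a c) := by
  rw [act_tr, om_enc]
  unfold stc
  by_cases h : fN c a
  · rw [if_pos h, if_pos h, one_smul, enc_xor]
  · rw [if_neg h, if_neg h, zero_smul, add_zero]

/-- conjugates `y9` to its square -/
def sq9 (c : ℕ) : ℕ := stc 8 (stc 14 (stc 25 (stc 26 (stc 33 c))))

theorem sq9_cox : ∀ c < 64, sq9 (cox c) = cox (cox (sq9 c)) := by decide +kernel

theorem conj_sq : IsConj y9 (y9 ^ 2) := by
  have h1 : ∀ c, act (tr (enc 8) * (tr (enc 14) * (tr (enc 25) * (tr (enc 26) * tr (enc 33))))) (enc c) = enc (sq9 c) := by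
    intro c
    simp only [act_mul, act_trc, sq9]
  refine isConj_iff.2 ⟨tr (enc 8) * (tr (enc 14) * (tr (enc 25) * (tr (enc 26) * tr (enc 33)))), ?_⟩
  rw [mul_inv_eq_iff_eq_mul]
  apply act_ext
  intro x
  obtain ⟨c, hc, rfl⟩ := exists_enc x
  rw [act_mul, act_y, h1, pow_two, mul_assoc, act_mul y9, act_mul y9, h1, act_y, act_y, sq9_cox c hc]

theorem conj_two_pow (j : ℕ) : IsConj y9 (y9 ^ 2 ^ j) := by
  induction j with
  | zero => rw [pow_zero, pow_one]
  | succ j ih =>
    refine ih.trans ?_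
    rw [pow_succ', pow_mul]
    exact conj_sq.pow _

theorem y9_rat (k : ℕ) (hk : ¬ 3 ∣ k) : IsConj y9 (y9 ^ k) := by
  have h1 : ∀ r < 9, ¬ 3 ∣ r → ∃ j < 6, 2 ^ j % 9 = r := by decide
  obtain ⟨j, -, hj⟩ := h1 (k % 9) (Nat.mod_lt _ (by norm_num)) (by omega)
  rw [pow_eq_pow_mod k y9_pow, ← hj, ← pow_eq_pow_mod _ y9_pow]
  exact conj_two_pow j

/-! ### the group -/

theorem center_S : center S = ⊥ := by
  refine eq_bot_of_card_eq _ ?_
  rw [LieClassical.SympCenter.card_center (F := ZMod 2) (m := 3) (by norm_num)]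
  simp [ZMod.card]

/-- `PSp₆(2) = Sp₆(2)` -/
noncomputable def eqv : PSp 3 (ZMod 2) ≃* S :=
  (QuotientGroup.quotientMulEquivOfEq center_S).trans QuotientGroup.quotientBot

theorem van3_S : Van3 S := by
  have h1 : IsSimpleGroup (PSp 3 (ZMod 2)) := S0270.result (F := ZMod 2) 3 (by norm_num) (by norm_num)
  have hs : IsSimpleGroup S := eqv.symm.isSimpleGroup
  have hna : ¬ IsMulCommutative S := by
    intro h
    have h2 : tr (enc 1) ∈ center S := mem_center_iff.2 fun g => h.1.1 _ _
    rw [center_S] at h2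
    exact tr_ne h2
  have p7 : Nat.Prime 7 := by norm_num
  have : Fact (Nat.Prime 7) := ⟨p7⟩
  obtain ⟨x, hx⟩ := exists_prime_orderOf_dvd_card' (G := S) 7 (by rw [card_S]; norm_num)
  refine ⟨x, y9, tr (enc 1), fun χ hχ h2 => ?_⟩
  by_cases h7 : 7 ∣ charDegree χ
  · exact Or.inl (H224.OZ.zero_of_factor hχ (A := 7) (C := 207360) card_S (by norm_num) h7 p7 dvd_rfl (by rw [hx]))
  by_cases h3 : 3 ∣ charDegree χ
  · exact Or.inr (Or.inl (zero_of_small (n := 2) Nat.prime_three y9_pow y9_rat card_cent hχ h2 h3))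
  refine Or.inr (Or.inr (zero_of_coprime hna hχ h2 tr_ne ?_))
  refine Nat.Coprime.coprime_dvd_left (index_tr (by decide +kernel)) ?_
  exact Nat.Coprime.mul_left ((Nat.Prime.coprime_iff_not_dvd p7).2 h7)
    (Nat.Coprime.pow_left 2 ((Nat.Prime.coprime_iff_not_dvd Nat.prime_three).2 h3))

/-- **`Sp₆(2)`** -/
theorem van3_sp62 (F : Type) [Field F] [Fintype F] (h : Fintype.card F = 2) : Van3 (PSp 3 F) := by
  have : Fact (Nat.Prime 2) := ⟨Nat.prime_two⟩
  obtain ⟨e⟩ : Nonempty (ZMod 2 ≃+* F) := ⟨FiniteField.ringEquivOfCardEq (by rw [h, ZMod.card])⟩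
  exact (van3_S.of_equiv eqv.symm).of_equiv (LieClassical.FieldTransfer.pspCongr 3 e)

end Cfsg.Agent.VAN.Sm
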